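/-
Coset enumeration data, found by a computer search; checked by `decide +kernel`.
-/
import Cfsg.Agent.Lib.Spor.TC.Check

namespace CfsgLib.Spor.Fi22.Perfect

open CfsgLib.Spor.TC

def edgeTbl : Tbl :=
  .bin (.tip 0x140000d000009000010000590000d0000530000d000050000010000d4000000000130000c000009000010000490000c0000420000c000040000010000c3000000000120000b000009000010000390000b0000310000b000030000010000b2000000000110000a000009000010000290000a000020000010000a1000000000980000000008700000000076000000000650000000005400000000043000000000320000000002100000000010) (.tip 0x80000900000900009000097000000000070000000000600000000005000000000040000000000300000000002000000000010000000000000001000009000000000170001000000900001000089000100000830001000008000001000107000000000160000f000009000010000790000f0000750000f000070000010000f6000000000150000e000009000010000690000e0000640000e000060000010000e5)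

def nodeTbl : Tbl :=
  .bin (.tip 0x17000016000015000014000013000012000011000008000007000006000005000004000003000002000001000000000000) (.none)

def rowTbl : Tbl :=
  .bin (.tip 0x0) (.none)

def rels : List (List ℕ) := [[0, 1, 0, 1, 0, 1], [0, 2, 0, 2], [0, 3, 0, 3], [0, 4, 0, 4], [0, 5, 0, 5], [0, 6, 0, 6], [0, 7, 0, 7], [0, 8, 0, 8], [1, 2, 1, 2, 1, 2], [1, 3, 1, 3], [1, 4, 1, 4], [1, 5, 1, 5], [1, 6, 1, 6], [1, 7, 1, 7], [1, 8, 1, 8], [2, 3, 2, 3, 2, 3], [2, 4, 2, 4], [2, 5, 2, 5], [2, 6, 2, 6], [2, 7, 2, 7], [2, 8, 2, 8], [3, 4, 3, 4, 3, 4], [3, 5, 3, 5], [3, 6, 3, 6], [3, 7, 3, 7, 3, 7], [3, 8, 3, 8], [4, 5, 4, 5, 4, 5], [4, 6, 4, 6], [4, 7, 4, 7], [4, 8, 4, 8], [5, 6, 5, 6, 5, 6], [5, 7, 5, 7], [5, 8, 5, 8], [6, 7, 6, 7], [6, 8, 6, 8], [7, 8, 7, 8, 7, 8], [3, 2, 1, 3, 4, 5, 3, 7, 8, 3, 2,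 1, 3, 4, 5, 3, 7, 8, 3, 2, 1, 3, 4, 5, 3, 7, 8, 3, 2, 1, 3, 4, 5, 3, 7, 8, 3, 2, 1, 3, 4, 5, 3, 7, 8, 3, 2, 1, 3, 4, 5, 3, 7, 8, 3, 2, 1, 3, 4, 5, 3, 7, 8, 3, 2, 1, 3, 4, 5, 3, 7, 8, 3, 2, 1, 3, 4, 5, 3, 7, 8, 3, 2, 1, 3, 4, 5, 3, 7, 8], [0, 1, 2, 3, 4, 5, 7, 0, 1, 2, 3, 4, 5, 7, 0, 1, 2, 3, 4, 5, 7, 0, 1, 2, 3, 4, 5, 7, 0, 1, 2, 3, 4, 5, 7, 0, 1, 2, 3, 4, 5, 7, 0, 1, 2, 3, 4, 5, 7, 0, 1, 2, 3, 4, 5, 7, 0, 1, 2, 3, 4, 5, 7], [1, 2, 3, 4, 5, 6, 7, 1, 2, 3, 4, 5, 6, 7, 1, 2, 3, 4, 5, 6, 7, 1, 2, 3, 4, 5, 6, 7, 1, 2, 3, 4, 5, 6, 7, 1, 2, 3, 4, 5, 6, 7, 1, 2, 3, 4, 5, 6, 7, 1, 2, 3, 4, 5, 6, 7, 1, 2, 3, 4, 5, 6, 7], [0, 0, 0, 0], [0, 1, 0, 1], [0, 2, 0, 2], [0, 3, 0, 3], [0, 4, 0, 4], [0, 5, 0, 5], [0, 6, 0, 6], [0, 7, 0, 7], [0, 8, 0, 8], [1, 0, 1, 0], [1, 1, 1, 1], [1, 2, 1, 2], [1, 3, 1, 3], [1, 4,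 1, 4], [1, 5, 1, 5], [1, 6, 1, 6], [1, 7, 1, 7], [1, 8, 1, 8], [2, 0, 2, 0], [2, 1, 2, 1], [2, 2, 2, 2], [2, 3, 2, 3], [2, 4, 2, 4], [2, 5, 2, 5], [2, 6, 2, 6], [2, 7, 2, 7], [2, 8, 2, 8], [3, 0, 3, 0], [3, 1, 3, 1], [3, 2, 3, 2], [3, 3, 3, 3], [3, 4, 3, 4], [3, 5, 3, 5], [3, 6, 3, 6], [3, 7, 3, 7], [3, 8, 3, 8], [4, 0, 4, 0], [4, 1, 4, 1], [4, 2, 4, 2], [4, 3, 4, 3], [4, 4, 4, 4], [4, 5, 4, 5], [4, 6, 4, 6], [4, 7, 4, 7], [4, 8, 4, 8], [5, 0, 5, 0], [5, 1, 5, 1], [5, 2, 5, 2], [5, 3, 5, 3], [5, 4, 5, 4], [5, 5, 5, 5], [5, 6, 5, 6], [5, 7, 5, 7], [5, 8, 5, 8], [6, 0, 6, 0], [6, 1, 6, 1], [6, 2, 6, 2], [6, 3, 6, 3], [6, 4, 6, 4], [6, 5, 6, 5], [6, 6, 6, 6], [6, 7, 6, 7], [6, 8, 6, 8], [7, 0, 7, 0], [7, 1, 7, 1], [7, 2, 7, 2], [7, 3, 7, 3], [7, 4, 7, 4], [7, 5, 7, 5], [7, 6, 7, 6], [7, 7, 7, 7], [7,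 8, 7, 8], [8, 0, 8, 0], [8, 1, 8, 1], [8, 2, 8, 2], [8, 3, 8, 3], [8, 4, 8, 4], [8, 5, 8, 5], [8, 6, 8, 6], [8, 7, 8, 7], [8, 8, 8, 8]]

def subs : List (List ℕ) := []

noncomputable def cert : Cert :=
  ⟨9, rels, subs, edgeTbl.get 44, nodeTbl.get 24, rowTbl.get 20⟩

end CfsgLib.Spor.Fi22.Perfect
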