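/-
Coset enumeration certificate, found by a computer search.
-/
import Cfsg.Agent.Lib.Spor.Fi22.Perfect.Data

namespace CfsgLib.Spor.Fi22.Perfect

open CfsgLib.Spor.TC

def scodes0_0 : List ℕ :=
  [0x1,
   0x1,
   0x1,
   0x1,
   0x1,
   0x1,
   0x1,
   0x1,
   0x1,
   0x1,
   0x3000020001400003000010002900002,
   0x15000130000100004000150001300007000030000100002,
   0x2000180001500004,
   0x140001a00004,
   0x1,
   0x5000020001e00003000010000200002,
   0x50001c0001e00003000010003300002,
   0x210001d0001b00006000210001d00007000040000900002,
   0x2000240001f00004,
   0x1e0002600004,
   0x1,
   0x7000020002a00003000010000300002,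
   0x7000280002a00003000010003d00002,
   0x2d0002900027000080002d0002900007000050001000002,
   0x2000300002b00004,
   0x2a0003200004,
   0x1,
   0x9000020003600003000010000400002,
   0x9000340003600003000010004700002,
   0x3900035000330000a000390003500007000060001600002,
   0x20003c0003700004,
   0x360003e00004,
   0x1,
   0xb000020004200003000010000500002,
   0xb000400004200003000010005100002,
   0x45000410003f0000c000450004100007000070001b00002,
   0x2000480004300004,
   0x420004a00004,
   0x1,
   0xd000020004e00003000010000600002,
   0xd0004c0004e00003000010005b00002,
   0x510004d0004b0000e000510004d00007000080001f00002,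
   0x2000540004f00004,
   0x4e0005600004,
   0x1,
   0xf000020005a00003000010000700002,
   0xf000340005a00003000010004a00002,
   0x5d0005900033000100005d0005900007000090001900002,
   0x2000600005b00004,
   0x5a0006200004,
   0x20001b0002800033000400004b00064000010001c00027000340003f0004c00063000020001b0002800033000400004b00064000010001c00027000340003f0004c00063000020001b0002800033000400004b00064000010001c00027000340003f0004c00063000020001b0002800033000400004b00064000010001c00027000340003f0004c00063000020001b0002800033000400004b0006400040000010002600002,
   0x20006600004,
   0x1c0006600004,
   0x280006600004,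
   0x340006600004,
   0x400006600004,
   0x4c0006600004,
   0x580006600004,
   0x640006600004,
   0x11000750001200003000010006f00002,
   0x75000120007700011000750001200007000010002400002,
   0x120007a00004]

def scodes0_ : List ℕ :=
  scodes0_0

set_option maxRecDepth 100000 in
theorem steps0 : cert.StepsOK 0 62 :=
  Cert.StepsOK.of_check _ (codes := scodes0_) (by decide +kernel)

def rcodes0_0 : List ℕ :=
  [0x7b0000100007500001000073000010000710000100006f0000100006d0000100006b000010000690000100006700001]

def rcodes0_ : List ℕ :=
  rcodes0_0

set_option maxRecDepth 100000 in
theorem rows0 : cert.RowsOK 62 1 0 1 :=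
  Cert.RowsOK.of_check _ (codes := rcodes0_) (by decide +kernel)

end CfsgLib.Spor.Fi22.Perfect
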